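import Mathlib
import Groth.Prelude.Def_CDiv

/-!
# Cartier divisors on integral schemes: basic facts about germs and supports
-/

set_option linter.unusedSectionVars false
set_option linter.unusedVariables false
set_option linter.unusedSimpArgs false
set_option autoImplicit false
set_option linter.style.haveILetI false
set_option maxHeartbeats 400000

namespace Groth.Agent.Lib.Helper6.CDiv1

open AlgebraicGeometry CategoryTheory TopologicalSpace

universe u

variable {X : Scheme.{u}} [IsIntegral X]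

lemma mem_stalkUnits_iff (x : X) (f : CDiv.KUnits X) :
    f ∈ CDiv.stalkUnits X x ↔
      ∃ u : (X.presheaf.stalk x)ˣ,
        algebraMap (X.presheaf.stalk x) X.functionField (u : X.presheaf.stalk x) =
          (f : X.functionField) := by
  unfold CDiv.stalkUnits
  rw [MonoidHom.mem_range]
  constructor
  · rintro ⟨u, hu⟩
    refine ⟨u, ?_⟩
    rw [← hu]
    rfl
  · rintro ⟨u, hu⟩
    refine ⟨u, ?_⟩
    apply Units.ext
    rw [← hu]
    rfl

lemma germOf_eq_one_iff (x : X) (f : CDiv.KUnits X) :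
    CDiv.germOf X x f = 1 ↔ f ∈ CDiv.stalkUnits X x :=
  QuotientGroup.eq_one_iff f

lemma germOf_eq_germOf_iff (x : X) (f g : CDiv.KUnits X) :
    CDiv.germOf X x f = CDiv.germOf X x g ↔ f⁻¹ * g ∈ CDiv.stalkUnits X x :=
  QuotientGroup.eq

/-- If a section `s` over `U` is invertible at `y ∈ U`, then its image in the function field is a
unit germ at `y`. -/
lemma mem_stalkUnits_of_mem_basicOpen {U : X.Opens} (s : Γ(X, U)) {y : X}
    (hy : y ∈ X.basicOpen s) (f : CDiv.KUnits X)
    (hf : haveI : Nonempty U := ⟨⟨y, X.basicOpen_le s hy⟩⟩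
      X.germToFunctionField U s = (f : X.functionField)) :
    f ∈ CDiv.stalkUnits X y := by
  haveI : Nonempty U := ⟨⟨y, X.basicOpen_le s hy⟩⟩
  have hyU : y ∈ U := X.basicOpen_le s hy
  have hunit : IsUnit (X.presheaf.germ U y hyU s) := (X.mem_basicOpen s y hyU).mp hy
  rw [mem_stalkUnits_iff]
  refine ⟨hunit.unit, ?_⟩
  rw [IsUnit.unit_spec, Scheme.algebraMap_germ_eq_germToFunctionField]
  exact hf

/-- The locus where a rational function is a unit germ is open. -/
lemma exists_open_forall_mem_stalkUnits {x : X} {f : CDiv.KUnits X}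
    (hf : f ∈ CDiv.stalkUnits X x) :
    ∃ W : X.Opens, x ∈ W ∧ ∀ y ∈ W, f ∈ CDiv.stalkUnits X y := by
  rw [mem_stalkUnits_iff] at hf
  obtain ⟨u, hu⟩ := hf
  obtain ⟨U, hxU, s, hs⟩ := X.presheaf.exists_germ_eq (x := x) (u : X.presheaf.stalk x)
  haveI : Nonempty U := ⟨⟨x, hxU⟩⟩
  have hsf : X.germToFunctionField U s = (f : X.functionField) := by
    rw [← hu, ← hs, Scheme.algebraMap_germ_eq_germToFunctionField]
  have hxW : x ∈ X.basicOpen s := by
    rw [X.mem_basicOpen s x hxU, hs]
    exact u.isUnit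
  refine ⟨X.basicOpen s, hxW, ?_⟩
  intro y hy
  exact mem_stalkUnits_of_mem_basicOpen s hy f hsf

/-- The support of a divisor is closed. -/
lemma isClosed_supp (D : CDiv.Divisor X) : IsClosed (CDiv.supp D) := by
  rw [← isOpen_compl_iff, isOpen_iff_forall_mem_open]
  intro x hx
  have hx1 : D.1 x = 1 := by
    by_contra h
    exact hx h
  obtain ⟨U, f, hxU, hU⟩ := D.2 x
  have hf : f ∈ CDiv.stalkUnits X x := by
    rw [← germOf_eq_one_iff, ← hU x hxU]
    exact hx1
  obtain ⟨W, hxW, hW⟩ := exists_open_forall_mem_stalkUnits hf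
  refine ⟨(U ⊓ W : X.Opens), ?_, (U ⊓ W).2, ⟨hxU, hxW⟩⟩
  intro y hy hys
  apply hys
  rw [hU y hy.1, germOf_eq_one_iff]
  exact hW y hy.2

end Groth.Agent.Lib.Helper6.CDiv1
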