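import Mathlib
import Groth.Prelude.Def_CDiv
import Groth.Agent.Lib.Helper6.CDiv1.Basic

/-!
# When is a rational function regular at a point? A criterion on an affine chart
-/

set_option linter.unusedSectionVars false
set_option linter.unusedVariables false
set_option linter.unusedSimpArgs false
set_option autoImplicit false
set_option linter.style.haveILetI false
set_option maxHeartbeats 400000

namespace Groth.Agent.Lib.Helper6.CDiv1

open AlgebraicGeometry CategoryTheory TopologicalSpace

universe u

variable {X : Scheme.{u}} [IsIntegral X]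

/-- `h` is regular at `y`: it lies in the image of the local ring at `y`. -/
def InStalk (y : X) (h : X.functionField) : Prop :=
  h ∈ Set.range (algebraMap (X.presheaf.stalk y) X.functionField)

/-- Chart criterion for regularity of a fraction at a point. -/
lemma inStalk_div_iff {V : X.Opens} (hV : IsAffineOpen V) {y : X} (hy : y ∈ V)
    (a b : Γ(X, V)) (hb : b ≠ 0) :
    haveI : Nonempty V := ⟨⟨y, hy⟩⟩
    InStalk y (algebraMap Γ(X, V) X.functionField a / algebraMap Γ(X, V) X.functionField b) ↔
      ∃ s c : Γ(X, V), s ∉ (hV.primeIdealOf ⟨y, hy⟩).asIdeal ∧ s * a = c * b := by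
  haveI : Nonempty V := ⟨⟨y, hy⟩⟩
  haveI := functionField_isFractionRing_of_isAffineOpen X V hV
  have hinj : Function.Injective (algebraMap Γ(X, V) X.functionField) :=
    IsFractionRing.injective Γ(X, V) X.functionField
  have hbK : algebraMap Γ(X, V) X.functionField b ≠ 0 :=
    fun h0 => hb (hinj (h0.trans (map_zero _).symm))
  letI alg := TopCat.Presheaf.algebra_section_stalk X.presheaf (⟨y, hy⟩ : V)
  haveI hloc := hV.isLocalization_stalk ⟨y, hy⟩
  have hcomp : ∀ t : Γ(X, V), algebraMap (X.presheaf.stalk y) X.functionField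
      (algebraMap Γ(X, V) (X.presheaf.stalk y) t) = algebraMap Γ(X, V) X.functionField t := by
    intro t
    exact Scheme.algebraMap_germ_eq_germToFunctionField X hy t
  constructor
  · rintro ⟨w, hw⟩
    obtain ⟨c, s, rfl⟩ := IsLocalization.exists_mk'_eq
      (hV.primeIdealOf ⟨y, hy⟩).asIdeal.primeCompl w
    refine ⟨s.1, c, s.2, ?_⟩
    apply hinj
    have h1 : algebraMap (X.presheaf.stalk y) X.functionField
        (IsLocalization.mk' (X.presheaf.stalk y) c s) *
        algebraMap Γ(X, V) X.functionField s.1 = algebraMap Γ(X, V) X.functionField c := by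
      rw [← hcomp s.1, ← map_mul, IsLocalization.mk'_spec, hcomp]
    rw [map_mul, map_mul, ← h1, hw]
    field_simp
  · rintro ⟨s, c, hs, hsc⟩
    have hsunit : IsUnit (algebraMap Γ(X, V) (X.presheaf.stalk y) s) :=
      IsLocalization.map_units (X.presheaf.stalk y)
        (⟨s, hs⟩ : (hV.primeIdealOf ⟨y, hy⟩).asIdeal.primeCompl)
    refine ⟨algebraMap Γ(X, V) (X.presheaf.stalk y) c * ((hsunit.unit⁻¹ : (X.presheaf.stalk y)ˣ) :
      X.presheaf.stalk y), ?_⟩
    have hsK : algebraMap Γ(X, V) X.functionField s ≠ 0 := by
      intro h0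
      have hs0 : s = 0 := hinj (h0.trans (map_zero _).symm)
      apply hs
      rw [hs0]
      exact Ideal.zero_mem _
    have h2 : algebraMap (X.presheaf.stalk y) X.functionField
        ((hsunit.unit⁻¹ : (X.presheaf.stalk y)ˣ) : X.presheaf.stalk y) =
        (algebraMap Γ(X, V) X.functionField s)⁻¹ := by
      apply eq_inv_of_mul_eq_one_left
      rw [← hcomp s, ← map_mul, IsUnit.val_inv_mul hsunit, map_one]
    rw [map_mul, hcomp, h2]
    have h3 := congrArg (algebraMap Γ(X, V) X.functionField) hsc
    rw [map_mul, map_mul] at h3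
    field_simp
    rw [mul_comm, h3, mul_comm]

end Groth.Agent.Lib.Helper6.CDiv1
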