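import Mathlib
import Groth.Prelude.Def_CAlg
import Groth.Agent.Lib.Helper4.Hartogs1

/-!
# A criterion for a Noetherian local domain to have depth one

If `h` is an element of the fraction field of a Noetherian local domain `R` which does not lie
in `R` but lies in every localisation of `R` at a non-maximal prime, then `depth R = 1`.
-/

set_option linter.unusedSectionVars false
set_option linter.unusedVariables false
set_option linter.unusedSimpArgs false
set_option autoImplicit false
set_option linter.style.haveILetI false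
set_option maxHeartbeats 400000

namespace Groth.Agent.Lib.Helper6.CDiv1

open IsLocalRing
open scoped Pointwise

universe u

variable {R : Type u} [CommRing R] [IsDomain R] [IsLocalRing R] [IsNoetherianRing R]
  {K : Type u} [Field K] [Algebra R K] [IsFractionRing R K]

/-- The ideal of denominators of `h`. -/
def denomIdeal (R : Type u) [CommRing R] {K : Type u} [Field K] [Algebra R K] (h : K) : Ideal R where
  carrier := {r | algebraMap R K r * h ∈ Set.range (algebraMap R K)}
  add_mem' := by
    rintro a b ⟨c, hc⟩ ⟨d, hd⟩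
    refine ⟨c + d, ?_⟩
    rw [map_add, map_add, add_mul, hc, hd]
  zero_mem' := ⟨0, by rw [map_zero, zero_mul]⟩
  smul_mem' := by
    rintro c a ⟨d, hd⟩
    refine ⟨c * d, ?_⟩
    rw [smul_eq_mul, map_mul, map_mul, mul_assoc, hd]

lemma mem_denomIdeal {h : K} {r : R} :
    r ∈ denomIdeal R h ↔ algebraMap R K r * h ∈ Set.range (algebraMap R K) := Iff.rfl

/-- There is an element `g ∉ R` of `K` with `𝔪 g ⊆ R`. -/
lemma exists_maximalIdeal_mul_mem {h : K} (hh : h ∉ Set.range (algebraMap R K))
    (hP : ∀ P : Ideal R, P.IsPrime → P ≠ maximalIdeal R → ∃ r, r ∉ P ∧ r ∈ denomIdeal R h) :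
    ∃ g : K, g ∉ Set.range (algebraMap R K) ∧
      ∀ r ∈ maximalIdeal R, algebraMap R K r * g ∈ Set.range (algebraMap R K) := by
  set I := denomIdeal R h with hI
  have hI1 : (1 : R) ∉ I := by
    intro h1
    rw [mem_denomIdeal, map_one, one_mul] at h1
    exact hh h1
  have hItop : I ≠ ⊤ := fun h => hI1 (h ▸ Submodule.mem_top)
  have hrad : maximalIdeal R ≤ I.radical := by
    rw [Ideal.radical_eq_sInf]
    refine le_sInf ?_
    rintro P ⟨hIP, hPprime⟩
    by_cases hPm : P = maximalIdeal R
    · rw [hPm]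
    · obtain ⟨r, hrP, hrI⟩ := hP P hPprime hPm
      exact absurd (hIP hrI) hrP
  obtain ⟨n, hn⟩ := Ideal.exists_pow_le_of_le_radical_of_fg hrad
    (IsNoetherian.noetherian (maximalIdeal R))
  classical
  have hex : ∃ n, maximalIdeal R ^ n ≤ I := ⟨n, hn⟩
  set k := Nat.find hex with hk
  have hkle : maximalIdeal R ^ k ≤ I := Nat.find_spec hex
  have hk0 : k ≠ 0 := by
    intro h0
    rw [h0, pow_zero, Ideal.one_eq_top, top_le_iff] at hkle
    exact hItop hkle
  obtain ⟨j, hj⟩ := Nat.exists_eq_succ_of_ne_zero hk0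
  have hjnot : ¬ maximalIdeal R ^ j ≤ I := by
    intro hle
    have := Nat.find_min' hex hle
    omega
  obtain ⟨t, htj, htI⟩ := Set.not_subset.mp hjnot
  refine ⟨algebraMap R K t * h, htI, ?_⟩
  intro r hr
  have hrt : r * t ∈ maximalIdeal R ^ k := by
    rw [hj, pow_succ']
    exact Ideal.mul_mem_mul hr htj
  have := hkle hrt
  rw [mem_denomIdeal, map_mul, mul_assoc] at this
  exact this

/-- The depth criterion. -/
theorem depth_eq_one_of_denominators {h : K} (hh : h ∉ Set.range (algebraMap R K))
    (hP : ∀ P : Ideal R, P.IsPrime → P ≠ maximalIdeal R → ∃ r, r ∉ P ∧ r ∈ denomIdeal R h) :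
    LocCoh.depth R R = 1 := by
  obtain ⟨g, hg, hmg⟩ := exists_maximalIdeal_mul_mem hh hP
  have hinj : Function.Injective (algebraMap R K) := IsFractionRing.injective R K
  -- `R` is not a field
  have hm : maximalIdeal R ≠ ⊥ := by
    intro hbot
    have hfield : IsField R := IsLocalRing.isField_iff_maximalIdeal_eq.mpr hbot
    apply hh
    obtain ⟨a, b, hb, hab⟩ := IsFractionRing.div_surjective (A := R) h
    have hb0 : b ≠ 0 := nonZeroDivisors.ne_zero hb
    obtain ⟨c, hc⟩ := hfield.mul_inv_cancel hb0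
    refine ⟨a * c, ?_⟩
    rw [← hab, map_mul]
    have hbK : algebraMap R K b ≠ 0 := fun h0 => hb0 (hinj (h0.trans (map_zero _).symm))
    rw [eq_div_iff hbK, mul_assoc, mul_comm (algebraMap R K c), ← map_mul, hc, map_one, mul_one]
  obtain ⟨r₀, hr₀m, hr₀0⟩ := Submodule.exists_mem_ne_zero_of_ne_bot hm
  have h1 : (1 : ℕ∞) ≤ LocCoh.depth R R := by
    rw [Groth.Agent.Lib.Helper4.Hartogs1.one_le_depth_iff]
    right
    refine ⟨r₀, hr₀m, ?_⟩
    intro a b hab
    simp only [smul_eq_mul] at hab
    exact mul_left_cancel₀ hr₀0 hab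
  have h2 : ¬ (2 : ℕ∞) ≤ LocCoh.depth R R := by
    rw [Groth.Agent.Lib.Helper4.Hartogs1.two_le_depth_iff]
    rintro (hs | ⟨r, hr, r', hr', hreg, hreg'⟩)
    · exact not_subsingleton R hs
    · have hr0 : r ≠ 0 := by
        intro h0
        rw [h0] at hreg
        have := hreg (show (0 : R) • (1 : R) = (0 : R) • (0 : R) by simp)
        exact one_ne_zero this
      obtain ⟨s', hs'⟩ := hmg r hr
      obtain ⟨c, hc⟩ := hmg r' hr'
      rw [Groth.Agent.Lib.Helper4.Hartogs1.regular_quot_iff] at hreg'
      have hmem : r' • s' ∈ r • (⊤ : Submodule R R) := by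
        rw [Groth.Agent.Lib.Helper4.Hartogs1.mem_smul_top_iff]
        refine ⟨c, ?_⟩
        apply hinj
        rw [smul_eq_mul, smul_eq_mul, map_mul, map_mul, hs', hc]
        ring
      have := hreg' s' hmem
      rw [Groth.Agent.Lib.Helper4.Hartogs1.mem_smul_top_iff] at this
      obtain ⟨s'', hs''⟩ := this
      apply hg
      refine ⟨s'', ?_⟩
      have hrK : algebraMap R K r ≠ 0 := fun h0 => hr0 (hinj (h0.trans (map_zero _).symm))
      apply mul_left_cancel₀ hrK
      rw [← hs', ← map_mul, hs'']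
      rfl
  have h3 : LocCoh.depth R R < 2 := not_le.mp h2
  have h4 : LocCoh.depth R R ≤ 1 := by
    have : (2 : ℕ∞) = 1 + 1 := by norm_num
    rw [this] at h3
    exact Order.le_of_lt_add_one h3
  exact le_antisymm h4 h1

end Groth.Agent.Lib.Helper6.CDiv1
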