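import Mathlib
import Groth.Prelude.Def_CDiv
import Groth.Prelude.Def_CAlg
import Groth.Agent.Lib.Helper6.CDiv1.DepthChart
import Groth.Agent.Lib.Helper6.CDiv1.DepthRing

/-!
# Points of depth one and regularity of rational functions
-/

set_option linter.unusedSectionVars false
set_option linter.unusedVariables false
set_option linter.unusedSimpArgs false
set_option autoImplicit false
set_option linter.style.haveILetI false
set_option maxHeartbeats 400000

namespace Groth.Agent.Lib.Helper6.CDiv1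

open AlgebraicGeometry CategoryTheory TopologicalSpace

universe u

variable {X : Scheme.{u}} [IsIntegral X]

/-- Points of an affine chart attached to primes below the prime of a given point. -/
lemma exists_point_of_prime_le {V : X.Opens} (hV : IsAffineOpen V) {y : X} (hy : y ∈ V)
    (p : Ideal Γ(X, V)) [hp : p.IsPrime] (hle : p ≤ (hV.primeIdealOf ⟨y, hy⟩).asIdeal) :
    ∃ (z : X) (hz : z ∈ V), z ⤳ y ∧ (hV.primeIdealOf ⟨z, hz⟩).asIdeal = p := by
  let pp : PrimeSpectrum Γ(X, V) := ⟨p, hp⟩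
  have hzV : hV.fromSpec pp ∈ V := by
    have : hV.fromSpec pp ∈ Set.range hV.fromSpec := ⟨pp, rfl⟩
    rw [hV.range_fromSpec] at this
    exact this
  have hprime : hV.primeIdealOf ⟨hV.fromSpec pp, hzV⟩ = pp := by
    apply hV.fromSpec.isOpenEmbedding.injective
    exact hV.fromSpec_primeIdealOf ⟨hV.fromSpec pp, hzV⟩
  refine ⟨hV.fromSpec pp, hzV, ?_, ?_⟩
  · have h1 : pp ⤳ hV.primeIdealOf ⟨y, hy⟩ :=
      (PrimeSpectrum.le_iff_specializes pp _).mp hle
    have h2 := hV.fromSpec.isOpenEmbedding.isInducing.specializes_iff.mpr h1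
    rw [hV.fromSpec_primeIdealOf ⟨y, hy⟩] at h2
    exact h2
  · rw [hprime]

lemma primeIdealOf_le_of_specializes {V : X.Opens} (hV : IsAffineOpen V) {y z : X} (hy : y ∈ V)
    (hz : z ∈ V) (h : z ⤳ y) :
    (hV.primeIdealOf ⟨z, hz⟩).asIdeal ≤ (hV.primeIdealOf ⟨y, hy⟩).asIdeal := by
  have h1 : hV.fromSpec (hV.primeIdealOf ⟨z, hz⟩) ⤳ hV.fromSpec (hV.primeIdealOf ⟨y, hy⟩) := by
    rw [hV.fromSpec_primeIdealOf ⟨z, hz⟩, hV.fromSpec_primeIdealOf ⟨y, hy⟩]
    exact h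
  have h2 := hV.fromSpec.isOpenEmbedding.isInducing.specializes_iff.mp h1
  exact (PrimeSpectrum.le_iff_specializes _ _).mpr h2

lemma eq_of_primeIdealOf_eq {V : X.Opens} (hV : IsAffineOpen V) {y z : X} (hy : y ∈ V)
    (hz : z ∈ V)
    (h : (hV.primeIdealOf ⟨z, hz⟩).asIdeal = (hV.primeIdealOf ⟨y, hy⟩).asIdeal) : z = y := by
  have h1 : hV.primeIdealOf ⟨z, hz⟩ = hV.primeIdealOf ⟨y, hy⟩ := PrimeSpectrum.ext h
  have h2 := hV.fromSpec_primeIdealOf ⟨z, hz⟩
  rw [h1, hV.fromSpec_primeIdealOf ⟨y, hy⟩] at h2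
  exact h2.symm

/-- Below a point where `h` is not regular there is a most generic such point. -/
lemma exists_minimal_nonregular (x : X) (h : CDiv.KUnits X)
    (hx : ¬ InStalk x (h : X.functionField)) :
    ∃ z : X, z ⤳ x ∧ ¬ InStalk z (h : X.functionField) ∧
      ∀ z' : X, z' ⤳ z → z' ≠ z → InStalk z' (h : X.functionField) := by
  obtain ⟨_, ⟨V, hV₀, rfl⟩, hxV, -⟩ := X.isBasis_affineOpens.exists_subset_of_mem_open
    (Set.mem_univ x) isOpen_univ
  have hV : IsAffineOpen V := hV₀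
  haveI : Nonempty V := ⟨⟨x, hxV⟩⟩
  haveI := functionField_isFractionRing_of_isAffineOpen X V hV
  obtain ⟨a, b, hb, hab⟩ := IsFractionRing.div_surjective (A := Γ(X, V)) (h : X.functionField)
  have hb0 : b ≠ 0 := nonZeroDivisors.ne_zero hb
  set I : Ideal Γ(X, V) := (Ideal.span {b}).colon ({a} : Set Γ(X, V)) with hI
  have hmemI : ∀ s : Γ(X, V), s ∈ I ↔ ∃ c, s * a = c * b := by
    intro s
    rw [hI, Submodule.mem_colon_singleton, smul_eq_mul, Ideal.mem_span_singleton']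
    constructor
    · rintro ⟨c, hc⟩
      exact ⟨c, hc.symm⟩
    · rintro ⟨c, hc⟩
      exact ⟨c, hc.symm⟩
  have hcrit : ∀ (y : X) (hy : y ∈ V), InStalk y (h : X.functionField) ↔
      ¬ I ≤ (hV.primeIdealOf ⟨y, hy⟩).asIdeal := by
    intro y hy
    rw [← hab, inStalk_div_iff hV hy a b hb0]
    constructor
    · rintro ⟨s, c, hs, hsc⟩ hle
      exact hs (hle ((hmemI s).mpr ⟨c, hsc⟩))
    · intro hnle
      obtain ⟨s, hsI, hs⟩ := Set.not_subset.mp hnle
      obtain ⟨c, hc⟩ := (hmemI s).mp hsI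
      exact ⟨s, c, hs, hc⟩
  have hIq : I ≤ (hV.primeIdealOf ⟨x, hxV⟩).asIdeal := by
    by_contra hcon
    exact hx ((hcrit x hxV).mpr hcon)
  haveI := (hV.primeIdealOf ⟨x, hxV⟩).2
  obtain ⟨q₀, hq₀, hq₀le⟩ := Ideal.exists_minimalPrimes_le hIq
  haveI hq₀prime : q₀.IsPrime := hq₀.1.1
  obtain ⟨z, hzV, hzx, hzp⟩ := exists_point_of_prime_le hV hxV q₀ hq₀le
  refine ⟨z, hzx, ?_, ?_⟩
  · rw [hcrit z hzV, not_not, hzp]
    exact hq₀.1.2
  · intro z' hz'z hne
    have hz'V : z' ∈ V := hz'z.mem_open V.2 hzV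
    rw [hcrit z' hz'V]
    intro hle
    have hle2 := primeIdealOf_le_of_specializes hV hzV hz'V hz'z
    rw [hzp] at hle2
    have hge : q₀ ≤ (hV.primeIdealOf ⟨z', hz'V⟩).asIdeal :=
      hq₀.2 ⟨(hV.primeIdealOf ⟨z', hz'V⟩).2, hle⟩ hle2
    apply hne
    apply eq_of_primeIdealOf_eq hV hzV hz'V
    rw [hzp]
    exact le_antisymm hle2 hge

end Groth.Agent.Lib.Helper6.CDiv1
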