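import Mathlib
import Groth.Prelude.Def_CDiv
import Groth.Prelude.Def_CAlg
import Groth.Agent.Lib.Helper6.CDiv1.DepthPts

/-!
# A point at which a rational function is not regular, while being regular at all its proper
generisations, has depth one
-/

set_option linter.unusedSectionVars false
set_option linter.unusedVariables false
set_option linter.unusedSimpArgs false
set_option autoImplicit false
set_option linter.style.haveILetI false
set_option maxHeartbeats 400000

namespace Groth.Agent.Lib.Helper6.CDiv1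

open AlgebraicGeometry CategoryTheory TopologicalSpace

universe u

variable {X : Scheme.{u}} [IsIntegral X]

theorem depth_eq_one_of_regular_off [IsLocallyNoetherian X] (x : X) (h : X.functionField)
    (hx : ¬ InStalk x h) (hz : ∀ z : X, z ⤳ x → z ≠ x → InStalk z h) :
    LocCoh.depth (X.presheaf.stalk x) (X.presheaf.stalk x) = 1 := by
  refine depth_eq_one_of_denominators (R := X.presheaf.stalk x) (K := X.functionField) hx ?_
  intro P hP hPm
  obtain ⟨_, ⟨V, hV₀, rfl⟩, hxV, -⟩ := X.isBasis_affineOpens.exists_subset_of_mem_open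
    (Set.mem_univ x) isOpen_univ
  have hV : IsAffineOpen V := hV₀
  haveI : Nonempty V := ⟨⟨x, hxV⟩⟩
  letI alg := TopCat.Presheaf.algebra_section_stalk X.presheaf (⟨x, hxV⟩ : V)
  haveI hloc := hV.isLocalization_stalk ⟨x, hxV⟩
  have hq : (hV.primeIdealOf ⟨x, hxV⟩).asIdeal =
      (IsLocalRing.maximalIdeal (X.presheaf.stalk x)).comap
        (algebraMap Γ(X, V) (X.presheaf.stalk x)) := by
    rw [hV.primeIdealOf_eq_map_closedPoint ⟨x, hxV⟩]
    rfl
  set p : Ideal Γ(X, V) := P.comap (algebraMap Γ(X, V) (X.presheaf.stalk x)) with hp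
  haveI hpprime : p.IsPrime := Ideal.comap_isPrime _ P
  have hple : p ≤ (hV.primeIdealOf ⟨x, hxV⟩).asIdeal := by
    rw [hq]
    exact Ideal.comap_mono (IsLocalRing.le_maximalIdeal hP.ne_top)
  obtain ⟨z, hzV, hzx, hzp⟩ := exists_point_of_prime_le hV hxV p hple
  have hzne : z ≠ x := by
    intro hzx'
    apply hPm
    subst hzx'
    have h1 : p = (IsLocalRing.maximalIdeal (X.presheaf.stalk z)).comap
        (algebraMap Γ(X, V) (X.presheaf.stalk z)) := by
      rw [← hzp, hq]
    have h2 := IsLocalization.map_under (hV.primeIdealOf ⟨z, hxV⟩).asIdeal.primeCompl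
      (X.presheaf.stalk z) P
    have h3 := IsLocalization.map_under (hV.primeIdealOf ⟨z, hxV⟩).asIdeal.primeCompl
      (X.presheaf.stalk z) (IsLocalRing.maximalIdeal (X.presheaf.stalk z))
    rw [← h2, ← h3]
    exact congrArg (Ideal.map (algebraMap Γ(X, V) (X.presheaf.stalk z))) (hp.symm.trans h1)
  obtain ⟨w, hw⟩ := hz z hzx hzne
  letI algz := TopCat.Presheaf.algebra_section_stalk X.presheaf (⟨z, hzV⟩ : V)
  haveI hlocz := hV.isLocalization_stalk ⟨z, hzV⟩
  obtain ⟨c, s, rfl⟩ := IsLocalization.exists_mk'_eq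
    (hV.primeIdealOf ⟨z, hzV⟩).asIdeal.primeCompl w
  have hsp : s.1 ∉ p := by
    rw [← hzp]
    exact s.2
  refine ⟨algebraMap Γ(X, V) (X.presheaf.stalk x) s.1, hsp, ?_⟩
  rw [mem_denomIdeal]
  refine ⟨algebraMap Γ(X, V) (X.presheaf.stalk x) c, ?_⟩
  have e1 : ∀ t : Γ(X, V), algebraMap (X.presheaf.stalk x) X.functionField
      (algebraMap Γ(X, V) (X.presheaf.stalk x) t) = algebraMap Γ(X, V) X.functionField t :=
    fun t => Scheme.algebraMap_germ_eq_germToFunctionField X hxV t
  have e2 : ∀ t : Γ(X, V), algebraMap (X.presheaf.stalk z) X.functionField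
      (algebraMap Γ(X, V) (X.presheaf.stalk z) t) = algebraMap Γ(X, V) X.functionField t :=
    fun t => Scheme.algebraMap_germ_eq_germToFunctionField X hzV t
  rw [e1, e1, ← hw, ← e2 s.1, ← map_mul, mul_comm, IsLocalization.mk'_spec, e2]

end Groth.Agent.Lib.Helper6.CDiv1
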