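import Mathlib
import Groth.Prelude.Def_CDiv
import Groth.Prelude.Def_CAlg
import Groth.Agent.Lib.Helper6.CDiv1.DepthCore

/-!
# Divisors and points of depth one
-/

set_option linter.unusedSectionVars false
set_option linter.unusedVariables false
set_option linter.unusedSimpArgs false
set_option autoImplicit false
set_option linter.style.haveILetI false
set_option maxHeartbeats 400000

namespace Groth.Agent.Lib.Helper6.CDiv1

open AlgebraicGeometry CategoryTheory TopologicalSpace

universe u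

variable {X : Scheme.{u}} [IsIntegral X]

lemma mem_stalkUnits_iff_inStalk (y : X) (f : CDiv.KUnits X) :
    f ∈ CDiv.stalkUnits X y ↔
      InStalk y (f : X.functionField) ∧ InStalk y ((f⁻¹ : CDiv.KUnits X) : X.functionField) := by
  rw [mem_stalkUnits_iff]
  constructor
  · rintro ⟨u, hu⟩
    refine ⟨⟨u, hu⟩, ⟨((u⁻¹ : (X.presheaf.stalk y)ˣ) : X.presheaf.stalk y), ?_⟩⟩
    rw [Units.val_inv_eq_inv_val, ← hu]
    apply eq_inv_of_mul_eq_one_left
    rw [← map_mul, Units.inv_mul, map_one]
  · rintro ⟨⟨w, hw⟩, ⟨w', hw'⟩⟩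
    have hinj : Function.Injective (algebraMap (X.presheaf.stalk y) X.functionField) :=
      IsFractionRing.injective _ _
    have h1 : w * w' = 1 := by
      apply hinj
      rw [map_mul, hw, hw', map_one, ← Units.val_mul, mul_inv_cancel, Units.val_one]
    have hunit : IsUnit w := IsUnit.of_mul_eq_one w' h1
    exact ⟨hunit.unit, by rw [IsUnit.unit_spec, hw]⟩

lemma isEffectiveAt_iff_inStalk (D : CDiv.Divisor X) (x : X) (f : CDiv.KUnits X)
    (hf : D.1 x = CDiv.germOf X x f) :
    CDiv.IsEffectiveAt D x ↔ InStalk x (f : X.functionField) := by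
  constructor
  · rintro ⟨a, ha, hD⟩
    rw [hf, germOf_eq_germOf_iff, mem_stalkUnits_iff] at hD
    obtain ⟨u, hu⟩ := hD
    refine ⟨a * ((u⁻¹ : (X.presheaf.stalk x)ˣ) : X.presheaf.stalk x), ?_⟩
    have h1 : algebraMap (X.presheaf.stalk x) X.functionField
        ((u⁻¹ : (X.presheaf.stalk x)ˣ) : X.presheaf.stalk x) =
        (algebraMap (X.presheaf.stalk x) X.functionField (u : X.presheaf.stalk x))⁻¹ := by
      apply eq_inv_of_mul_eq_one_left
      rw [← map_mul, Units.inv_mul, map_one]
    rw [map_mul, h1, hu, Units.val_mul, Units.val_mk0, Units.val_inv_eq_inv_val, mul_inv,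
      inv_inv]
    have hane := ha
    field_simp
  · rintro ⟨a, ha⟩
    have hne : algebraMap (X.presheaf.stalk x) X.functionField a ≠ 0 := by
      rw [ha]
      exact f.ne_zero
    refine ⟨a, hne, ?_⟩
    rw [hf]
    congr 1
    apply Units.ext
    rw [Units.val_mk0, ha]

/-- A maximal point of the support of a divisor has depth one. -/
theorem depth_eq_one_of_maximal_mem_supp [IsLocallyNoetherian X] (D : CDiv.Divisor X) (x : X)
    (hx : x ∈ CDiv.supp D) (hmax : ∀ z : X, z ∈ CDiv.supp D → z ⤳ x → z = x) :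
    LocCoh.depth (X.presheaf.stalk x) (X.presheaf.stalk x) = 1 := by
  obtain ⟨U₀, f, hxU₀, hU₀⟩ := D.2 x
  have hfx : f ∉ CDiv.stalkUnits X x := by
    intro h
    apply hx
    rw [hU₀ x hxU₀, germOf_eq_one_iff]
    exact h
  have hgen : ∀ z : X, z ⤳ x → z ≠ x → f ∈ CDiv.stalkUnits X z := by
    intro z hzx hne
    have hzU₀ : z ∈ U₀ := hzx.mem_open U₀.2 hxU₀
    have hzs : z ∉ CDiv.supp D := fun hz => hne (hmax z hz hzx)
    have h1 : D.1 z = 1 := by
      by_contra h
      exact hzs h
    rw [hU₀ z hzU₀, germOf_eq_one_iff] at h1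
    exact h1
  rw [mem_stalkUnits_iff_inStalk, not_and_or] at hfx
  rcases hfx with h | h
  · exact depth_eq_one_of_regular_off x _ h
      (fun z hzx hne => ((mem_stalkUnits_iff_inStalk z f).mp (hgen z hzx hne)).1)
  · exact depth_eq_one_of_regular_off x _ h
      (fun z hzx hne => ((mem_stalkUnits_iff_inStalk z f).mp (hgen z hzx hne)).2)

theorem isEffective_of_depth_one_points [IsLocallyNoetherian X] (D : CDiv.Divisor X)
    (H : ∀ x : ↥X, LocCoh.depth (X.presheaf.stalk x) (X.presheaf.stalk x) = 1 →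
      CDiv.IsEffectiveAt D x) : CDiv.IsEffective D := by
  intro x
  obtain ⟨U₀, f, hxU₀, hU₀⟩ := D.2 x
  rw [isEffectiveAt_iff_inStalk D x f (hU₀ x hxU₀)]
  by_contra hcon
  obtain ⟨z, hzx, hzn, hzgen⟩ := exists_minimal_nonregular x f hcon
  have hdepth := depth_eq_one_of_regular_off z _ hzn hzgen
  have hzU₀ : z ∈ U₀ := hzx.mem_open U₀.2 hxU₀
  have := H z hdepth
  rw [isEffectiveAt_iff_inStalk D z f (hU₀ z hzU₀)] at this
  exact hzn this

theorem eq_one_of_depth_one_points [IsLocallyNoetherian X] (D : CDiv.Divisor X)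
    (H : ∀ x : ↥X, LocCoh.depth (X.presheaf.stalk x) (X.presheaf.stalk x) = 1 → D.1 x = 1) :
    D = 1 := by
  apply Subtype.ext
  funext x
  change D.1 x = 1
  by_contra hcon
  obtain ⟨U₀, f, hxU₀, hU₀⟩ := D.2 x
  have hfx : f ∉ CDiv.stalkUnits X x := by
    intro h
    apply hcon
    rw [hU₀ x hxU₀, germOf_eq_one_iff]
    exact h
  have key : ∀ h : CDiv.KUnits X, (∀ z : X, f ∈ CDiv.stalkUnits X z →
      InStalk z (h : X.functionField)) → ¬ InStalk x (h : X.functionField) → False := by
    intro h hh hn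
    obtain ⟨z, hzx, hzn, hzgen⟩ := exists_minimal_nonregular x h hn
    have hdepth := depth_eq_one_of_regular_off z _ hzn hzgen
    have hzU₀ : z ∈ U₀ := hzx.mem_open U₀.2 hxU₀
    have h1 := H z hdepth
    rw [hU₀ z hzU₀, germOf_eq_one_iff] at h1
    exact hzn (hh z h1)
  rw [mem_stalkUnits_iff_inStalk, not_and_or] at hfx
  rcases hfx with h | h
  · exact key f (fun z hz => ((mem_stalkUnits_iff_inStalk z f).mp hz).1) h
  · exact key f⁻¹ (fun z hz => ((mem_stalkUnits_iff_inStalk z f).mp hz).2) h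

end Groth.Agent.Lib.Helper6.CDiv1
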