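import Mathlib
import Groth.Agent.Lib.Helper6.CDiv1.DepthRing

/-!
# A normal Noetherian local domain in which some fraction has only the maximal ideal as a pole
is a discrete valuation ring
-/

set_option linter.unusedSectionVars false
set_option linter.unusedVariables false
set_option linter.unusedSimpArgs false
set_option autoImplicit false
set_option linter.style.haveILetI false
set_option maxHeartbeats 400000

namespace Groth.Agent.Lib.Helper6.CDiv1

open IsLocalRing

universe u

variable {R : Type u} [CommRing R] [IsDomain R] [IsLocalRing R] [IsNoetherianRing R]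
  {K : Type u} [Field K] [Algebra R K] [IsFractionRing R K]

theorem isDiscreteValuationRing_of_denominators [IsIntegrallyClosed R] {h : K}
    (hh : h ∉ Set.range (algebraMap R K))
    (hP : ∀ P : Ideal R, P.IsPrime → P ≠ maximalIdeal R → ∃ r, r ∉ P ∧ r ∈ denomIdeal R h) :
    IsDiscreteValuationRing R := by
  obtain ⟨g, hg, hmg⟩ := exists_maximalIdeal_mul_mem hh hP
  have hinj : Function.Injective (algebraMap R K) := IsFractionRing.injective R K
  -- `R` is not a field
  have hnf : ¬ IsField R := by
    intro hfield
    apply hh
    obtain ⟨a, b, hb, hab⟩ := IsFractionRing.div_surjective (A := R) h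
    have hb0 : b ≠ 0 := nonZeroDivisors.ne_zero hb
    obtain ⟨c, hc⟩ := hfield.mul_inv_cancel hb0
    refine ⟨a * c, ?_⟩
    rw [← hab, map_mul]
    have hbK : algebraMap R K b ≠ 0 := fun h0 => hb0 (hinj (h0.trans (map_zero _).symm))
    rw [eq_div_iff hbK, mul_assoc, mul_comm (algebraMap R K c), ← map_mul, hc, map_one, mul_one]
  have hm : maximalIdeal R ≠ ⊥ := fun hbot => hnf (IsLocalRing.isField_iff_maximalIdeal_eq.mpr hbot)
  -- some element of `𝔪 g` is a unit
  have hex : ∃ t ∈ maximalIdeal R, ∃ c : R, algebraMap R K t * g = algebraMap R K c ∧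
      c ∉ maximalIdeal R := by
    by_contra hcon
    push Not at hcon
    apply hg
    let N : Submodule R K := Submodule.map (Algebra.linearMap R K)
      (maximalIdeal R : Submodule R R)
    have hNbot : N ≠ ⊥ := by
      intro hN
      apply hm
      rw [eq_bot_iff]
      intro r hr
      have : algebraMap R K r ∈ N := ⟨r, hr, rfl⟩
      rw [hN, Submodule.mem_bot] at this
      rw [Submodule.mem_bot]
      exact hinj (this.trans (map_zero _).symm)
    have hNfg : N.FG := Submodule.FG.map _ (IsNoetherian.noetherian (maximalIdeal R))
    have hint : IsIntegral R g := by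
      refine isIntegral_of_smul_mem_submodule N hNbot hNfg g ?_
      rintro _ ⟨r, hr, rfl⟩
      obtain ⟨c, hc⟩ := hmg r hr
      have hcm : c ∈ maximalIdeal R := hcon r hr c hc.symm
      refine ⟨c, hcm, ?_⟩
      rw [Algebra.linearMap_apply, Algebra.linearMap_apply, smul_eq_mul, hc, mul_comm]
    obtain ⟨y, hy⟩ := IsIntegrallyClosed.isIntegral_iff.mp hint
    exact ⟨y, hy⟩
  obtain ⟨t, htm, c, hc, hcm⟩ := hex
  have hcu : IsUnit c := by
    by_contra hnu
    exact hcm ((IsLocalRing.mem_maximalIdeal c).mpr hnu)
  have ht0 : t ≠ 0 := by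
    intro h0
    rw [h0, map_zero, zero_mul] at hc
    have : c = 0 := hinj (hc.symm.trans (map_zero _).symm)
    rw [this] at hcu
    exact not_isUnit_zero hcu
  have htK : algebraMap R K t ≠ 0 := fun h0 => ht0 (hinj (h0.trans (map_zero _).symm))
  have hprinc : (maximalIdeal R).IsPrincipal := by
    refine ⟨⟨t, ?_⟩⟩
    apply le_antisymm
    · intro r hr
      obtain ⟨d, hd⟩ := hmg r hr
      obtain ⟨c', hc'⟩ := hcu.exists_left_inv
      -- r = (c' * d) * t
      rw [Ideal.submodule_span_eq, Ideal.mem_span_singleton']
      refine ⟨c' * d, ?_⟩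
      apply hinj
      have hgK : g = algebraMap R K c / algebraMap R K t := by
        rw [eq_div_iff htK, mul_comm, hc]
      have hcK : algebraMap R K c' * algebraMap R K c = 1 := by
        rw [← map_mul, hc', map_one]
      rw [map_mul, map_mul, hd, hgK]
      calc algebraMap R K c' * (algebraMap R K r * (algebraMap R K c / algebraMap R K t)) *
          algebraMap R K t
          = algebraMap R K r * (algebraMap R K c' * algebraMap R K c) *
            (algebraMap R K t / algebraMap R K t) := by ring
        _ = algebraMap R K r := by rw [hcK, div_self htK, mul_one, mul_one]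
    · rw [Ideal.submodule_span_eq, Ideal.span_le]
      intro z hz
      rw [Set.mem_singleton_iff] at hz
      rw [hz]
      exact htm
  exact ((IsDiscreteValuationRing.TFAE R hnf).out 4 0).mp hprinc

end Groth.Agent.Lib.Helper6.CDiv1
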