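import Mathlib
import Groth.Prelude.Def_CDiv
import Groth.Prelude.Def_CAlg
import Groth.Prelude.Def_Pi1
import Groth.Agent.Lib.Helper6.CDiv1.NormalPts

/-!
# Divisors on normal schemes: effectivity is tested by orders of vanishing at codimension one
-/

set_option linter.unusedSectionVars false
set_option linter.unusedVariables false
set_option linter.unusedSimpArgs false
set_option autoImplicit false
set_option linter.style.haveILetI false
set_option maxHeartbeats 400000

namespace Groth.Agent.Lib.Helper6.CDiv1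

open AlgebraicGeometry CategoryTheory TopologicalSpace

universe u

section DVR

variable {R : Type*} [CommRing R] [IsDomain R] [IsDiscreteValuationRing R]
  {K : Type*} [Field K] [Algebra R K] [IsFractionRing R K]

lemma mem_range_of_one_le_ordFrac {f : K} (hf : f ≠ 0) (h : 1 ≤ Ring.ordFrac R f) :
    f ∈ Set.range (algebraMap R K) := by
  rw [Ring.ordFrac_eq_valuation_inv] at h
  have hv : (IsDiscreteValuationRing.maximalIdeal R).valuation K f ≠ 0 := by
    rw [ne_eq, map_eq_zero]
    exact hf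
  have hpos : 0 < (IsDiscreteValuationRing.maximalIdeal R).valuation K f :=
    zero_lt_iff.mpr hv
  have hle : (IsDiscreteValuationRing.maximalIdeal R).valuation K f ≤ 1 :=
    (one_le_inv₀ hpos).mp h
  exact IsDiscreteValuationRing.exists_lift_of_le_one hle

lemma exists_unit_of_ordFrac_eq_one {f : K} (h : Ring.ordFrac R f = 1) :
    ∃ u : Rˣ, algebraMap R K (u : R) = f := by
  have h1 : f ∈ MonoidHom.mker (Ring.ordFrac R : K →*₀ WithZero (Multiplicative ℤ)) := h
  rw [Ring.mker_ordFrac_eq_isUnitSubmonoid] at h1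
  obtain ⟨a, ha, haf⟩ := h1
  have hau : IsUnit a := ha
  exact ⟨hau.unit, by rw [IsUnit.unit_spec]; exact haf⟩

end DVR

variable {X : Scheme.{u}} [IsIntegral X]

lemma inStalk_of_ord_nonneg [IsLocallyNoetherian X] (z : X)
    [IsDiscreteValuationRing (X.presheaf.stalk z)] (f : X.functionField) (hf : f ≠ 0)
    (h : 0 ≤ Scheme.ord f z) : InStalk z f := by
  have hz : Order.coheight z = 1 := coheight_eq_one_of_isDiscreteValuationRing z
  rw [Scheme.le_ord_iff hz hf] at h
  have h1 : (1 : WithZero (Multiplicative ℤ)) ≤ Ring.ordFrac (X.presheaf.stalk z) f := by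
    have : ((Multiplicative.ofAdd (0 : ℤ) : Multiplicative ℤ) : WithZero (Multiplicative ℤ)) = 1 := by
      rw [ofAdd_zero]
      rfl
    rw [← this]
    exact h
  exact mem_range_of_one_le_ordFrac hf h1

lemma mem_stalkUnits_of_ord_eq_zero [IsLocallyNoetherian X] (z : X)
    [IsDiscreteValuationRing (X.presheaf.stalk z)] (f : CDiv.KUnits X)
    (h : Scheme.ord (f : X.functionField) z = 0) : f ∈ CDiv.stalkUnits X z := by
  have hz : Order.coheight z = 1 := coheight_eq_one_of_isDiscreteValuationRing z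
  rw [Scheme.ord_eq_iff hz f.ne_zero] at h
  have h1 : Ring.ordFrac (X.presheaf.stalk z) (f : X.functionField) = 1 := by
    have : ((Multiplicative.ofAdd (0 : ℤ) : Multiplicative ℤ) : WithZero (Multiplicative ℤ)) = 1 := by
      rw [ofAdd_zero]
      rfl
    rw [← this]
    exact h
  obtain ⟨u, hu⟩ := exists_unit_of_ordFrac_eq_one h1
  rw [mem_stalkUnits_iff]
  exact ⟨u, hu⟩

lemma ord_nonneg_of_inStalk [IsLocallyNoetherian X] (x : X) (hx : Order.coheight x = 1)
    (f : X.functionField) (hf : f ≠ 0) (h : InStalk x f) : 0 ≤ Scheme.ord f x := by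
  rw [Scheme.le_ord_iff hx hf]
  obtain ⟨a, ha⟩ := h
  have ha0 : a ≠ 0 := by
    intro h0
    rw [h0, map_zero] at ha
    exact hf ha.symm
  haveI : Ring.KrullDimLE 1 (X.presheaf.stalk x) := krullDimLE_of_coheight_le hx.le
  have h1 := Ring.ordFrac_ge_one_of_ne_zero (R := X.presheaf.stalk x) (K := X.functionField) ha0
  rw [ha] at h1
  have : ((Multiplicative.ofAdd (0 : ℤ) : Multiplicative ℤ) : WithZero (Multiplicative ℤ)) = 1 := by
    rw [ofAdd_zero]
    rfl
  rw [this]
  exact h1

theorem isEffective_iff_ord_nonneg [IsLocallyNoetherian X] (hX : Pi1.IsNormalScheme X)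
    (D : CDiv.Divisor X) :
    CDiv.IsEffective D ↔ ∀ x : ↥X, Order.coheight x = 1 → ∀ f : CDiv.KUnits X,
      D.1 x = CDiv.germOf X x f → 0 ≤ Scheme.ord (f : ↑X.functionField) x := by
  constructor
  · intro hD x hx f hf
    exact ord_nonneg_of_inStalk x hx _ f.ne_zero ((isEffectiveAt_iff_inStalk D x f hf).mp (hD x))
  · intro H x
    obtain ⟨U₀, f, hxU₀, hU₀⟩ := D.2 x
    rw [isEffectiveAt_iff_inStalk D x f (hU₀ x hxU₀)]
    by_contra hcon
    obtain ⟨z, hzx, hzn, hzgen⟩ := exists_minimal_nonregular x f hcon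
    haveI := isDiscreteValuationRing_stalk_of_regular_off hX z _ hzn hzgen
    have hzU₀ : z ∈ U₀ := hzx.mem_open U₀.2 hxU₀
    have hz1 : Order.coheight z = 1 := coheight_eq_one_of_isDiscreteValuationRing z
    exact hzn (inStalk_of_ord_nonneg z _ f.ne_zero (H z hz1 f (hU₀ z hzU₀)))

theorem eq_one_of_ord_eq_zero [IsLocallyNoetherian X] (hX : Pi1.IsNormalScheme X)
    (D : CDiv.Divisor X)
    (H : ∀ x : ↥X, Order.coheight x = 1 → ∀ f : CDiv.KUnits X, D.1 x = CDiv.germOf X x f →
      Scheme.ord (f : ↑X.functionField) x = 0) : D = 1 := by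
  apply Subtype.ext
  funext x
  change D.1 x = 1
  by_contra hcon
  obtain ⟨U₀, f, hxU₀, hU₀⟩ := D.2 x
  have hfx : f ∉ CDiv.stalkUnits X x := by
    intro h
    apply hcon
    rw [hU₀ x hxU₀, germOf_eq_one_iff]
    exact h
  have key : ∀ h : CDiv.KUnits X, (∀ z : X, f ∈ CDiv.stalkUnits X z →
      InStalk z (h : X.functionField)) → ¬ InStalk x (h : X.functionField) → False := by
    intro h hh hn
    obtain ⟨z, hzx, hzn, hzgen⟩ := exists_minimal_nonregular x h hn
    haveI := isDiscreteValuationRing_stalk_of_regular_off hX z _ hzn hzgen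
    have hzU₀ : z ∈ U₀ := hzx.mem_open U₀.2 hxU₀
    have hz1 : Order.coheight z = 1 := coheight_eq_one_of_isDiscreteValuationRing z
    exact hzn (hh z (mem_stalkUnits_of_ord_eq_zero z f (H z hz1 f (hU₀ z hzU₀))))
  rw [mem_stalkUnits_iff_inStalk, not_and_or] at hfx
  rcases hfx with h | h
  · exact key f (fun z hz => ((mem_stalkUnits_iff_inStalk z f).mp hz).1) h
  · exact key f⁻¹ (fun z hz => ((mem_stalkUnits_iff_inStalk z f).mp hz).2) h

end Groth.Agent.Lib.Helper6.CDiv1
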