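import Mathlib
import Groth.Prelude.Def_CDiv
import Groth.Agent.Lib.Helper6.CDiv1.NormalThms

/-!
# The prime ideal of a generisation in the local ring of a point
-/

set_option linter.unusedSectionVars false
set_option linter.unusedVariables false
set_option linter.unusedSimpArgs false
set_option autoImplicit false
set_option linter.style.haveILetI false
set_option maxHeartbeats 400000

namespace Groth.Agent.Lib.Helper6.CDiv1

open AlgebraicGeometry CategoryTheory TopologicalSpace

universe u

variable {X : Scheme.{u}} [IsIntegral X]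

/-- The prime ideal of `O_{X,x}` of germs vanishing at the generisation `x₀` of `x`. -/
noncomputable def specPrime {x₀ x : X} (h : x₀ ⤳ x) : Ideal (X.presheaf.stalk x) :=
  (IsLocalRing.maximalIdeal (X.presheaf.stalk x₀)).comap (X.presheaf.stalkSpecializes h).hom

instance {x₀ x : X} (h : x₀ ⤳ x) : (specPrime h).IsPrime := by
  unfold specPrime
  exact Ideal.comap_isPrime _ _

lemma mem_specPrime {x₀ x : X} (h : x₀ ⤳ x) (r : X.presheaf.stalk x) :
    r ∈ specPrime h ↔ ¬ IsUnit ((X.presheaf.stalkSpecializes h).hom r) := by
  unfold specPrime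
  rw [Ideal.mem_comap, IsLocalRing.mem_maximalIdeal, mem_nonunits_iff]

/-- Compatibility of the maps to the function field. -/
lemma algebraMap_stalkSpecializes {x₀ x : X} (h : x₀ ⤳ x) (r : X.presheaf.stalk x) :
    algebraMap (X.presheaf.stalk x₀) X.functionField ((X.presheaf.stalkSpecializes h).hom r) =
      algebraMap (X.presheaf.stalk x) X.functionField r := by
  have h1 : X.presheaf.stalkSpecializes h ≫
      X.presheaf.stalkSpecializes ((genericPoint_spec X).specializes trivial) =
      X.presheaf.stalkSpecializes ((genericPoint_spec X).specializes trivial) :=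
    X.presheaf.stalkSpecializes_comp _ _
  have h2 := congrArg (fun φ => φ.hom r) h1
  exact h2

lemma inStalk_of_specializes {x₀ x : X} (h : x₀ ⤳ x) {g : X.functionField} (hg : InStalk x g) :
    InStalk x₀ g := by
  obtain ⟨r, hr⟩ := hg
  exact ⟨(X.presheaf.stalkSpecializes h).hom r, by rw [algebraMap_stalkSpecializes, hr]⟩

/-- In a chart, the prime of a generisation contracts to the prime of that point. -/
lemma specPrime_comap_germ {V : X.Opens} (hV : IsAffineOpen V) {x₀ x : X} (h : x₀ ⤳ x)
    (hx : x ∈ V) :
    (specPrime h).comap (X.presheaf.germ V x hx).hom =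
      (hV.primeIdealOf ⟨x₀, h.mem_open V.2 hx⟩).asIdeal := by
  unfold specPrime
  rw [Ideal.comap_comap, hV.primeIdealOf_eq_map_closedPoint ⟨x₀, h.mem_open V.2 hx⟩]
  have h1 : (X.presheaf.stalkSpecializes h).hom.comp (X.presheaf.germ V x hx).hom =
      (X.presheaf.germ V x₀ (h.mem_open V.2 hx)).hom := by
    rw [← CommRingCat.hom_comp, X.presheaf.germ_stalkSpecializes]
  rw [h1]
  rfl

end Groth.Agent.Lib.Helper6.CDiv1
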