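import Mathlib
import Groth.Prelude.Def_CDiv
import Groth.Agent.Lib.Helper6.CDiv1.FactPrime

/-!
# Height-one primes of local rings and points of codimension one
-/

set_option linter.unusedSectionVars false
set_option linter.unusedVariables false
set_option linter.unusedSimpArgs false
set_option autoImplicit false
set_option linter.style.haveILetI false
set_option maxHeartbeats 400000

namespace Groth.Agent.Lib.Helper6.CDiv1

open AlgebraicGeometry CategoryTheory TopologicalSpace

universe u

variable {X : Scheme.{u}} [IsIntegral X]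

/-- Ideals of a local ring of `X` are determined by their contractions to a chart. -/
lemma ideal_eq_of_comap_germ_eq {V : X.Opens} (hV : IsAffineOpen V) {x : X} (hx : x ∈ V)
    (P Q : Ideal (X.presheaf.stalk x))
    (h : P.comap (X.presheaf.germ V x hx).hom = Q.comap (X.presheaf.germ V x hx).hom) :
    P = Q := by
  letI alg := TopCat.Presheaf.algebra_section_stalk X.presheaf (⟨x, hx⟩ : V)
  haveI hloc := hV.isLocalization_stalk ⟨x, hx⟩
  have h2 := IsLocalization.map_under (hV.primeIdealOf ⟨x, hx⟩).asIdeal.primeCompl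
    (X.presheaf.stalk x) P
  have h3 := IsLocalization.map_under (hV.primeIdealOf ⟨x, hx⟩).asIdeal.primeCompl
    (X.presheaf.stalk x) Q
  rw [← h2, ← h3]
  exact congrArg (Ideal.map (algebraMap Γ(X, V) (X.presheaf.stalk x))) h

lemma height_comap_germ {V : X.Opens} (hV : IsAffineOpen V) {x : X} (hx : x ∈ V)
    (P : Ideal (X.presheaf.stalk x)) :
    (P.comap (X.presheaf.germ V x hx).hom).height = P.height := by
  letI alg := TopCat.Presheaf.algebra_section_stalk X.presheaf (⟨x, hx⟩ : V)
  haveI hloc := hV.isLocalization_stalk ⟨x, hx⟩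
  exact IsLocalization.height_under (hV.primeIdealOf ⟨x, hx⟩).asIdeal.primeCompl P

lemma height_primeIdealOf_eq_coheight {V : X.Opens} (hV : IsAffineOpen V) {x : X} (hx : x ∈ V) :
    ((hV.primeIdealOf ⟨x, hx⟩).asIdeal.height : WithBot ℕ∞) = (Order.coheight x : ℕ∞) := by
  letI alg := TopCat.Presheaf.algebra_section_stalk X.presheaf (⟨x, hx⟩ : V)
  haveI hloc := hV.isLocalization_stalk ⟨x, hx⟩
  haveI := (hV.primeIdealOf ⟨x, hx⟩).2
  rw [← IsLocalization.AtPrime.ringKrullDim_eq_height (hV.primeIdealOf ⟨x, hx⟩).asIdeal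
    (X.presheaf.stalk x)]
  exact ringKrullDim_stalk_eq_coheight x

/-- The prime of a codimension-one generisation has height one. -/
lemma height_specPrime {x₀ x : X} (h : x₀ ⤳ x) (h1 : Order.coheight x₀ = 1) :
    (specPrime h).height = 1 := by
  obtain ⟨_, ⟨V, hV₀, rfl⟩, hxV, -⟩ := X.isBasis_affineOpens.exists_subset_of_mem_open
    (Set.mem_univ x) isOpen_univ
  have hV : IsAffineOpen V := hV₀
  rw [← height_comap_germ hV hxV, specPrime_comap_germ hV h hxV]
  have := height_primeIdealOf_eq_coheight hV (h.mem_open V.2 hxV)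
  rw [h1] at this
  exact WithBot.coe_injective this

/-- Every height-one prime of a local ring is the prime of a codimension-one generisation. -/
lemma exists_specPrime_eq {x : X} (P : Ideal (X.presheaf.stalk x)) [P.IsPrime]
    (hP : P.height = 1) :
    ∃ (x₀ : X) (h : x₀ ⤳ x), Order.coheight x₀ = 1 ∧ P = specPrime h := by
  obtain ⟨_, ⟨V, hV₀, rfl⟩, hxV, -⟩ := X.isBasis_affineOpens.exists_subset_of_mem_open
    (Set.mem_univ x) isOpen_univ
  have hV : IsAffineOpen V := hV₀
  set p : Ideal Γ(X, V) := P.comap (X.presheaf.germ V x hxV).hom with hp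
  haveI hpprime : p.IsPrime := Ideal.comap_isPrime _ P
  have hple : p ≤ (hV.primeIdealOf ⟨x, hxV⟩).asIdeal := by
    rw [hV.primeIdealOf_eq_map_closedPoint ⟨x, hxV⟩]
    exact Ideal.comap_mono (IsLocalRing.le_maximalIdeal (Ideal.IsPrime.ne_top inferInstance))
  obtain ⟨x₀, hx₀V, hx₀x, hx₀p⟩ := exists_point_of_prime_le hV hxV p hple
  refine ⟨x₀, hx₀x, ?_, ?_⟩
  · have h1 := height_primeIdealOf_eq_coheight hV hx₀V
    rw [hx₀p, hp, height_comap_germ hV hxV, hP] at h1
    exact (WithBot.coe_injective h1).symm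
  · apply ideal_eq_of_comap_germ_eq hV hxV
    rw [specPrime_comap_germ hV hx₀x hxV, hx₀p]

end Groth.Agent.Lib.Helper6.CDiv1
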