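import Mathlib
import Groth.Prelude.Def_CDiv
import Groth.Agent.Lib.Helper6.CDiv1.FactHeight

/-!
# A local generator of the prime of a generisation generates it on a whole neighbourhood
-/

set_option linter.unusedSectionVars false
set_option linter.unusedVariables false
set_option linter.unusedSimpArgs false
set_option autoImplicit false
set_option linter.style.haveILetI false
set_option maxHeartbeats 400000

namespace Groth.Agent.Lib.Helper6.CDiv1

open AlgebraicGeometry CategoryTheory TopologicalSpace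

universe u

variable {X : Scheme.{u}} [IsIntegral X]

lemma mem_basicOpen_iff_notMem_primeIdealOf {V : X.Opens} (hV : IsAffineOpen V) {y : X}
    (hy : y ∈ V) (s : Γ(X, V)) :
    y ∈ X.basicOpen s ↔ s ∉ (hV.primeIdealOf ⟨y, hy⟩).asIdeal := by
  have h1 : hV.fromSpec (hV.primeIdealOf ⟨y, hy⟩) = y := hV.fromSpec_primeIdealOf ⟨y, hy⟩
  have h2 := hV.fromSpec_preimage_basicOpen s
  constructor
  · intro hys
    have : hV.primeIdealOf ⟨y, hy⟩ ∈ hV.fromSpec ⁻¹ᵁ X.basicOpen s := by
      change hV.fromSpec (hV.primeIdealOf ⟨y, hy⟩) ∈ X.basicOpen s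
      rw [h1]
      exact hys
    rw [h2] at this
    exact this
  · intro hs
    have : hV.primeIdealOf ⟨y, hy⟩ ∈ hV.fromSpec ⁻¹ᵁ X.basicOpen s := by
      rw [h2]
      exact hs
    have h3 : hV.fromSpec (hV.primeIdealOf ⟨y, hy⟩) ∈ X.basicOpen s := this
    rw [h1] at h3
    exact h3

lemma specializes_of_primeIdealOf_le {V : X.Opens} (hV : IsAffineOpen V) {y z : X} (hy : y ∈ V)
    (hz : z ∈ V)
    (h : (hV.primeIdealOf ⟨z, hz⟩).asIdeal ≤ (hV.primeIdealOf ⟨y, hy⟩).asIdeal) : z ⤳ y := by
  haveI := (hV.primeIdealOf ⟨z, hz⟩).2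
  obtain ⟨z', hz'V, hz'y, hz'p⟩ := exists_point_of_prime_le hV hy _ h
  have : z' = z := eq_of_primeIdealOf_eq hV hz hz'V hz'p
  rw [← this]
  exact hz'y

/-- Main chart lemma. -/
theorem exists_nhd_generator [IsLocallyNoetherian X] {x₀ x : X} (h : x₀ ⤳ x)
    (π : X.presheaf.stalk x) (hπ : specPrime h = Ideal.span {π}) (hπ0 : π ≠ 0) :
    ∃ (W : X.Opens) (g : CDiv.KUnits X), x ∈ W ∧
      (g : X.functionField) = algebraMap (X.presheaf.stalk x) X.functionField π ∧
      ∀ y ∈ W,
        (∀ (hy : x₀ ⤳ y) (π' : X.presheaf.stalk y), specPrime hy = Ideal.span {π'} →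
          ∃ u : (X.presheaf.stalk y)ˣ,
            algebraMap (X.presheaf.stalk y) X.functionField (π' * (u : X.presheaf.stalk y)) =
              (g : X.functionField)) ∧
        (¬ x₀ ⤳ y → g ∈ CDiv.stalkUnits X y) := by
  obtain ⟨U, hxU, s, hs⟩ := X.presheaf.exists_germ_eq (x := x) π
  obtain ⟨_, ⟨V, hV₀, rfl⟩, hxV, hVU⟩ := X.isBasis_affineOpens.exists_subset_of_mem_open hxU U.2
  have hV : IsAffineOpen V := hV₀
  haveI : Nonempty V := ⟨⟨x, hxV⟩⟩
  haveI : IsNoetherianRing Γ(X, V) := IsLocallyNoetherian.component_noetherian ⟨V, hV₀⟩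
  set a : Γ(X, V) := X.presheaf.map (homOfLE hVU).op s with ha
  have hax : X.presheaf.germ V x hxV a = π := by
    rw [ha, ← hs]
    exact X.presheaf.germ_res_apply (homOfLE hVU) x hxV s
  have hx₀V : x₀ ∈ V := h.mem_open V.2 hxV
  set p₁ : Ideal Γ(X, V) := (hV.primeIdealOf ⟨x₀, hx₀V⟩).asIdeal with hp₁
  have hp₁x : (specPrime h).comap (X.presheaf.germ V x hxV).hom = p₁ :=
    specPrime_comap_germ hV h hxV
  have hap₁ : a ∈ p₁ := by
    rw [← hp₁x, Ideal.mem_comap, hπ]
    change X.presheaf.germ V x hxV a ∈ Ideal.span {π}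
    rw [hax]
    exact Ideal.mem_span_singleton_self π
  have hinjx : Function.Injective (X.presheaf.germ V x hxV) := germ_injective_of_isIntegral X x hxV
  -- multipliers for elements of `p₁`
  letI algx := TopCat.Presheaf.algebra_section_stalk X.presheaf (⟨x, hxV⟩ : V)
  haveI hlocx := hV.isLocalization_stalk ⟨x, hxV⟩
  have hmult : ∀ b ∈ p₁, ∃ t c : Γ(X, V), t ∉ (hV.primeIdealOf ⟨x, hxV⟩).asIdeal ∧
      t * b = c * a := by
    intro b hb
    have hb' : X.presheaf.germ V x hxV b ∈ specPrime h := by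
      rw [← hp₁x] at hb
      exact hb
    rw [hπ, Ideal.mem_span_singleton'] at hb'
    obtain ⟨w, hw⟩ := hb'
    obtain ⟨c, t, rfl⟩ := IsLocalization.exists_mk'_eq
      (hV.primeIdealOf ⟨x, hxV⟩).asIdeal.primeCompl w
    refine ⟨t.1, c, t.2, ?_⟩
    apply hinjx
    have h1 : IsLocalization.mk' (X.presheaf.stalk x) c t *
        algebraMap Γ(X, V) (X.presheaf.stalk x) t.1 = algebraMap Γ(X, V) (X.presheaf.stalk x) c :=
      IsLocalization.mk'_spec _ c t
    have h2 : algebraMap Γ(X, V) (X.presheaf.stalk x) t.1 * algebraMap Γ(X, V) (X.presheaf.stalk x) b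
        = algebraMap Γ(X, V) (X.presheaf.stalk x) c * algebraMap Γ(X, V) (X.presheaf.stalk x) a := by
      have hb2 : algebraMap Γ(X, V) (X.presheaf.stalk x) b =
          IsLocalization.mk' (X.presheaf.stalk x) c t * π := hw.symm
      have ha2 : algebraMap Γ(X, V) (X.presheaf.stalk x) a = π := hax
      rw [hb2, ha2, ← h1]
      ring
    rw [map_mul, map_mul]
    exact h2
  obtain ⟨T, hT⟩ := (IsNoetherian.noetherian p₁ : p₁.FG)
  have hTmem : ∀ b ∈ T, b ∈ p₁ := by
    intro b hb
    rw [← hT]
    exact Ideal.subset_span hb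
  classical
  choose! t c htq htc using hmult
  set sT : Γ(X, V) := ∏ b ∈ T, t b with hsT
  have hsTq : sT ∉ (hV.primeIdealOf ⟨x, hxV⟩).asIdeal := by
    haveI := (hV.primeIdealOf ⟨x, hxV⟩).2
    intro hmem
    rw [hsT, Ideal.IsPrime.prod_mem_iff] at hmem
    obtain ⟨b, hbT, hb⟩ := hmem
    exact htq b (hTmem b hbT) hb
  have haK : algebraMap Γ(X, V) X.functionField a ≠ 0 := by
    haveI := functionField_isFractionRing_of_isAffineOpen X V hV
    intro h0
    have ha0 : a = 0 := (IsFractionRing.injective Γ(X, V) X.functionField)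
      (h0.trans (map_zero _).symm)
    apply hπ0
    rw [← hax, ha0, map_zero]
  refine ⟨X.basicOpen sT, Units.mk0 _ haK, ?_, ?_, ?_⟩
  · exact (mem_basicOpen_iff_notMem_primeIdealOf hV hxV sT).mpr hsTq
  · rw [Units.val_mk0, ← hax]
    exact (Scheme.algebraMap_germ_eq_germToFunctionField X hxV a).symm
  · intro y hyW
    have hyV : y ∈ V := X.basicOpen_le sT hyW
    have hsTy : sT ∉ (hV.primeIdealOf ⟨y, hyV⟩).asIdeal :=
      (mem_basicOpen_iff_notMem_primeIdealOf hV hyV sT).mp hyW
    have hty : ∀ b ∈ T, t b ∉ (hV.primeIdealOf ⟨y, hyV⟩).asIdeal := by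
      intro b hbT hmem
      apply hsTy
      rw [hsT]
      obtain ⟨d, hd⟩ := Finset.dvd_prod_of_mem t hbT
      rw [hd]
      exact Ideal.mul_mem_right _ _ hmem
    letI algy := TopCat.Presheaf.algebra_section_stalk X.presheaf (⟨y, hyV⟩ : V)
    haveI hlocy := hV.isLocalization_stalk ⟨y, hyV⟩
    constructor
    · intro hy π' hπ'
      have hp₁y : (specPrime hy).comap (X.presheaf.germ V y hyV).hom = p₁ :=
        specPrime_comap_germ hV hy hyV
      -- `germ_y a` generates the prime at `y`
      have hgen : specPrime hy = Ideal.span {(X.presheaf.germ V y hyV a : X.presheaf.stalk y)} := by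
        apply le_antisymm
        · have hmap := IsLocalization.map_under (hV.primeIdealOf ⟨y, hyV⟩).asIdeal.primeCompl
            (X.presheaf.stalk y) (specPrime hy)
          have hunder : (specPrime hy).under Γ(X, V) = p₁ := hp₁y
          rw [hunder, ← hT, Ideal.map_span] at hmap
          rw [← hmap, Ideal.span_le]
          rintro _ ⟨b, hbT, rfl⟩
          have hunit : IsUnit (algebraMap Γ(X, V) (X.presheaf.stalk y) (t b)) :=
            IsLocalization.map_units (X.presheaf.stalk y)
              (⟨t b, hty b hbT⟩ : (hV.primeIdealOf ⟨y, hyV⟩).asIdeal.primeCompl)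
          have heq := congrArg (algebraMap Γ(X, V) (X.presheaf.stalk y)) (htc b (hTmem b hbT))
          rw [map_mul, map_mul] at heq
          rw [SetLike.mem_coe, Ideal.mem_span_singleton']
          refine ⟨((hunit.unit⁻¹ : (X.presheaf.stalk y)ˣ) : X.presheaf.stalk y) *
            algebraMap Γ(X, V) (X.presheaf.stalk y) (c b), ?_⟩
          have ha3 : (X.presheaf.germ V y hyV a : X.presheaf.stalk y) =
              algebraMap Γ(X, V) (X.presheaf.stalk y) a := rfl
          rw [ha3, mul_assoc, ← heq, ← mul_assoc, IsUnit.val_inv_mul hunit, one_mul]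
        · rw [Ideal.span_le]
          intro z hz
          rw [Set.mem_singleton_iff] at hz
          rw [hz]
          have : a ∈ (specPrime hy).comap (X.presheaf.germ V y hyV).hom := by
            rw [hp₁y]
            exact hap₁
          exact this
      rw [hπ'] at hgen
      rw [Ideal.span_singleton_eq_span_singleton] at hgen
      obtain ⟨u, hu⟩ := hgen
      refine ⟨u, ?_⟩
      rw [hu, Units.val_mk0]
      exact Scheme.algebraMap_germ_eq_germToFunctionField X hyV a
    · intro hny
      have hnle : ¬ p₁ ≤ (hV.primeIdealOf ⟨y, hyV⟩).asIdeal := by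
        intro hle
        exact hny (specializes_of_primeIdealOf_le hV hyV hx₀V hle)
      have hexb : ∃ b ∈ T, b ∉ (hV.primeIdealOf ⟨y, hyV⟩).asIdeal := by
        by_contra hcon
        push Not at hcon
        apply hnle
        rw [← hT, Ideal.span_le]
        intro b hb
        exact hcon b hb
      obtain ⟨b, hbT, hby⟩ := hexb
      have hay : a ∉ (hV.primeIdealOf ⟨y, hyV⟩).asIdeal := by
        intro hmem
        haveI := (hV.primeIdealOf ⟨y, hyV⟩).2
        have h1 : t b * b ∈ (hV.primeIdealOf ⟨y, hyV⟩).asIdeal := by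
          rw [htc b (hTmem b hbT)]
          exact Ideal.mul_mem_left _ _ hmem
        rcases Ideal.IsPrime.mem_or_mem inferInstance h1 with h2 | h2
        · exact hty b hbT h2
        · exact hby h2
      have hyb : y ∈ X.basicOpen a := (mem_basicOpen_iff_notMem_primeIdealOf hV hyV a).mpr hay
      refine mem_stalkUnits_of_mem_basicOpen a hyb _ ?_
      rw [Units.val_mk0]
      rfl

end Groth.Agent.Lib.Helper6.CDiv1
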