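import Mathlib
import Groth.Prelude.Def_CDiv
import Groth.Prelude.Def_Pi1
import Groth.Agent.Lib.Helper6.CDiv1.FactHeight

/-!
# If prime cycles of codimension one are divisors, then height-one primes are principal
-/

set_option linter.unusedSectionVars false
set_option linter.unusedVariables false
set_option linter.unusedSimpArgs false
set_option autoImplicit false
set_option linter.style.haveILetI false
set_option maxHeartbeats 400000

namespace Groth.Agent.Lib.Helper6.CDiv1

open AlgebraicGeometry CategoryTheory TopologicalSpace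

universe u

variable {X : Scheme.{u}} [IsIntegral X]

lemma ord_eq_zero_of_mem_stalkUnits [IsLocallyNoetherian X] {z : X} (f : CDiv.KUnits X)
    (hf : f ∈ CDiv.stalkUnits X z) : Scheme.ord (f : X.functionField) z = 0 := by
  by_cases hz : Order.coheight z = 1
  · rw [Scheme.ord_eq_iff hz f.ne_zero]
    rw [mem_stalkUnits_iff] at hf
    obtain ⟨u, hu⟩ := hf
    haveI : Ring.KrullDimLE 1 (X.presheaf.stalk z) := krullDimLE_of_coheight_le hz.le
    have h1 := Ring.ordFrac_of_isUnit (R := X.presheaf.stalk z) (K := X.functionField) u.isUnit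
    rw [hu] at h1
    have : ((Multiplicative.ofAdd (0 : ℤ) : Multiplicative ℤ) : WithZero (Multiplicative ℤ)) = 1 := by
      rw [ofAdd_zero]
      rfl
    rw [this]
    exact h1
  · exact Scheme.ord_eq_zero_of_coheight_neq_one hz _

lemma one_le_ord_of_not_isUnit [IsLocallyNoetherian X] (z : X)
    [IsDiscreteValuationRing (X.presheaf.stalk z)] (a : X.presheaf.stalk z) (ha0 : a ≠ 0)
    (hau : ¬ IsUnit a) :
    1 ≤ Scheme.ord (algebraMap (X.presheaf.stalk z) X.functionField a) z := by
  have hinj : Function.Injective (algebraMap (X.presheaf.stalk z) X.functionField) :=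
    IsFractionRing.injective _ _
  have haK : algebraMap (X.presheaf.stalk z) X.functionField a ≠ 0 :=
    fun h0 => ha0 (hinj (h0.trans (map_zero _).symm))
  have hz : Order.coheight z = 1 := coheight_eq_one_of_isDiscreteValuationRing z
  have h0 : 0 ≤ Scheme.ord (algebraMap (X.presheaf.stalk z) X.functionField a) z :=
    ord_nonneg_of_inStalk z hz _ haK ⟨a, rfl⟩
  have hne : Scheme.ord (algebraMap (X.presheaf.stalk z) X.functionField a) z ≠ 0 := by
    intro h
    have hmem := mem_stalkUnits_of_ord_eq_zero z (Units.mk0 _ haK) h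
    rw [mem_stalkUnits_iff] at hmem
    obtain ⟨u, hu⟩ := hmem
    rw [Units.val_mk0] at hu
    have : (u : X.presheaf.stalk z) = a := hinj hu
    apply hau
    rw [← this]
    exact u.isUnit
  omega

/-- The key step: a divisor with order one along `x₀` and zero along the other prime divisors
cuts out the prime of `x₀` in every local ring. -/
theorem isPrincipal_specPrime_of_divisor [IsLocallyNoetherian X] (hX : Pi1.IsNormalScheme X)
    {x₀ x : X} (h : x₀ ⤳ x) (hx₀ : Order.coheight x₀ = 1) (D : CDiv.Divisor X)
    (H1 : ∀ f : CDiv.KUnits X, D.1 x₀ = CDiv.germOf X x₀ f →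
      Scheme.ord (f : ↑X.functionField) x₀ = 1)
    (H2 : ∀ z : ↥X, z ≠ x₀ → Order.coheight z = 1 → ∀ f : CDiv.KUnits X,
      D.1 z = CDiv.germOf X z f → Scheme.ord (f : ↑X.functionField) z = 0) :
    (specPrime h).IsPrincipal := by
  obtain ⟨U₀, f, hxU₀, hU₀⟩ := D.2 x
  have hx₀U₀ : x₀ ∈ U₀ := h.mem_open U₀.2 hxU₀
  have hinj : Function.Injective (algebraMap (X.presheaf.stalk x) X.functionField) :=
    IsFractionRing.injective _ _
  have hordx₀ : Scheme.ord (f : X.functionField) x₀ = 1 := H1 f (hU₀ x₀ hx₀U₀)
  -- the orders of `f` at codimension-one generisations of `x`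
  have hord : ∀ z : X, z ⤳ x → Order.coheight z = 1 → 0 ≤ Scheme.ord (f : X.functionField) z := by
    intro z hzx hz1
    by_cases hzx₀ : z = x₀
    · rw [hzx₀, hordx₀]
      exact zero_le_one
    · rw [H2 z hzx₀ hz1 f (hU₀ z (hzx.mem_open U₀.2 hxU₀))]
  -- Claim 1: `f` is regular at `x`
  have hfx : InStalk x (f : X.functionField) := by
    by_contra hcon
    obtain ⟨z, hzx, hzn, hzgen⟩ := exists_minimal_nonregular x f hcon
    haveI := isDiscreteValuationRing_stalk_of_regular_off hX z _ hzn hzgen
    have hz1 : Order.coheight z = 1 := coheight_eq_one_of_isDiscreteValuationRing z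
    exact hzn (inStalk_of_ord_nonneg z _ f.ne_zero (hord z hzx hz1))
  obtain ⟨φ, hφ⟩ := hfx
  have hφ0 : φ ≠ 0 := by
    intro h0
    rw [h0, map_zero] at hφ
    exact f.ne_zero hφ.symm
  -- Claim 2: `φ` lies in the prime
  have hφP : φ ∈ specPrime h := by
    rw [mem_specPrime]
    intro hunit
    have hmem : f ∈ CDiv.stalkUnits X x₀ := by
      rw [mem_stalkUnits_iff]
      refine ⟨hunit.unit, ?_⟩
      rw [IsUnit.unit_spec, algebraMap_stalkSpecializes, hφ]
    have := ord_eq_zero_of_mem_stalkUnits f hmem
    rw [hordx₀] at this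
    exact one_ne_zero this
  -- Claim 3: every element of the prime is a multiple of `φ`
  refine ⟨⟨φ, ?_⟩⟩
  apply le_antisymm
  · intro r hr
    rw [Ideal.submodule_span_eq, Ideal.mem_span_singleton']
    by_cases hr0 : r = 0
    · exact ⟨0, by rw [hr0, zero_mul]⟩
    have hrK : algebraMap (X.presheaf.stalk x) X.functionField r ≠ 0 :=
      fun h0 => hr0 (hinj (h0.trans (map_zero _).symm))
    set g : CDiv.KUnits X := Units.mk0 _ hrK * f⁻¹ with hg
    have hgf : (g : X.functionField) * (f : X.functionField) =
        algebraMap (X.presheaf.stalk x) X.functionField r := by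
      rw [hg, Units.val_mul, Units.val_mk0, mul_assoc, ← Units.val_mul, inv_mul_cancel,
        Units.val_one, mul_one]
    have hgx : InStalk x (g : X.functionField) := by
      by_contra hcon
      obtain ⟨z, hzx, hzn, hzgen⟩ := exists_minimal_nonregular x g hcon
      haveI := isDiscreteValuationRing_stalk_of_regular_off hX z _ hzn hzgen
      have hz1 : Order.coheight z = 1 := coheight_eq_one_of_isDiscreteValuationRing z
      apply hzn
      apply inStalk_of_ord_nonneg z _ g.ne_zero
      have hmul : Scheme.ord (algebraMap (X.presheaf.stalk x) X.functionField r) z =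
          Scheme.ord (g : X.functionField) z + Scheme.ord (f : X.functionField) z := by
        rw [← hgf]
        exact Scheme.ord_mul g.ne_zero f.ne_zero
      have hrz : algebraMap (X.presheaf.stalk z) X.functionField
          ((X.presheaf.stalkSpecializes hzx).hom r) =
          algebraMap (X.presheaf.stalk x) X.functionField r := algebraMap_stalkSpecializes hzx r
      by_cases hzx₀ : z = x₀
      · subst hzx₀
        have hr' : ¬ IsUnit ((X.presheaf.stalkSpecializes hzx).hom r) := by
          have := (mem_specPrime h r).mp hr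
          exact this
        have hr0' : (X.presheaf.stalkSpecializes hzx).hom r ≠ 0 := by
          intro h0
          rw [h0, map_zero] at hrz
          exact hrK hrz.symm
        have h1 := one_le_ord_of_not_isUnit z _ hr0' hr'
        rw [hrz] at h1
        rw [hordx₀] at hmul
        omega
      · have h0 : 0 ≤ Scheme.ord (algebraMap (X.presheaf.stalk x) X.functionField r) z := by
          rw [← hrz]
          exact ord_nonneg_of_inStalk z hz1 _ (by rw [hrz]; exact hrK) ⟨_, rfl⟩
        have hf0 := H2 z hzx₀ hz1 f (hU₀ z (hzx.mem_open U₀.2 hxU₀))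
        rw [hf0] at hmul
        omega
    obtain ⟨c, hc⟩ := hgx
    refine ⟨c, ?_⟩
    apply hinj
    rw [map_mul, hc, hφ, hgf]
  · rw [Ideal.submodule_span_eq, Ideal.span_le]
    intro z hz
    rw [Set.mem_singleton_iff] at hz
    rw [hz]
    exact hφP

end Groth.Agent.Lib.Helper6.CDiv1
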