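import Mathlib
import Groth.Prelude.Def_CDiv
import Groth.Prelude.Def_Pi1
import Groth.Agent.Lib.Helper6.CDiv1.FactChart
import Groth.Agent.Lib.Helper6.CDiv1.FactConv

/-!
# On a locally factorial scheme, prime cycles of codimension one are divisors
-/

set_option linter.unusedSectionVars false
set_option linter.unusedVariables false
set_option linter.unusedSimpArgs false
set_option autoImplicit false
set_option linter.style.haveILetI false
set_option maxHeartbeats 400000

namespace Groth.Agent.Lib.Helper6.CDiv1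

open AlgebraicGeometry CategoryTheory TopologicalSpace

universe u

variable {X : Scheme.{u}} [IsIntegral X]

theorem exists_divisor_of_ufd [IsLocallyNoetherian X]
    (hufd : ∀ x : X, UniqueFactorizationMonoid (X.presheaf.stalk x)) (x₀ : X)
    (hx₀ : Order.coheight x₀ = 1) :
    ∃ D : CDiv.Divisor X,
      (∀ (x : X) (h : x₀ ⤳ x), ∃ π : X.presheaf.stalk x, specPrime h = Ideal.span {π} ∧
        ∃ hπ : algebraMap (X.presheaf.stalk x) X.functionField π ≠ 0,
          D.1 x = CDiv.germOf X x (Units.mk0 _ hπ)) ∧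
      (∀ x : X, ¬ x₀ ⤳ x → D.1 x = 1) := by
  classical
  have hgen : ∀ (x : X) (h : x₀ ⤳ x), ∃ π : X.presheaf.stalk x, specPrime h = Ideal.span {π} ∧
      algebraMap (X.presheaf.stalk x) X.functionField π ≠ 0 := by
    intro x h
    haveI := hufd x
    have hh := height_specPrime h hx₀
    obtain ⟨⟨π, hπ⟩⟩ := UniqueFactorizationMonoid.isPrincipal_of_height_eq_one hh
    refine ⟨π, hπ, ?_⟩
    intro h0
    have hπ0 : π = 0 := (IsFractionRing.injective (X.presheaf.stalk x) X.functionField)
      (h0.trans (map_zero _).symm)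
    apply Ideal.ne_bot_of_height_eq_one hh
    rw [hπ, hπ0]
    exact Ideal.span_singleton_eq_bot.mpr rfl
  choose π hπ hπK using hgen
  let F : ∀ x : X, CDiv.Germ X x := fun x =>
    if h : x₀ ⤳ x then CDiv.germOf X x (Units.mk0 _ (hπK x h)) else 1
  have hF1 : ∀ (x : X) (h : x₀ ⤳ x), F x = CDiv.germOf X x (Units.mk0 _ (hπK x h)) :=
    fun x h => dif_pos h
  have hF2 : ∀ x : X, ¬ x₀ ⤳ x → F x = 1 := fun x h => dif_neg h
  have hmem : F ∈ CDiv.divisorGroup X := by
    intro x
    by_cases h : x₀ ⤳ x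
    · have hπ0 : π x h ≠ 0 := by
        intro h0
        apply hπK x h
        rw [h0, map_zero]
      obtain ⟨W, g, hxW, hg, hW⟩ := exists_nhd_generator h (π x h) (hπ x h) hπ0
      refine ⟨W, g, hxW, ?_⟩
      intro y hy
      by_cases hy' : x₀ ⤳ y
      · rw [hF1 y hy', germOf_eq_germOf_iff, mem_stalkUnits_iff]
        obtain ⟨u, hu⟩ := (hW y hy).1 hy' (π y hy') (hπ y hy')
        refine ⟨u, ?_⟩
        rw [Units.val_mul, Units.val_inv_eq_inv_val, Units.val_mk0, ← hu, map_mul, ← mul_assoc,
          inv_mul_cancel₀ (hπK y hy'), one_mul]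
      · rw [hF2 y hy']
        symm
        rw [germOf_eq_one_iff]
        exact (hW y hy).2 hy'
    · have hopen : IsOpen ((closure ({x₀} : Set X))ᶜ) := isClosed_closure.isOpen_compl
      refine ⟨⟨(closure ({x₀} : Set X))ᶜ, hopen⟩, 1, ?_, ?_⟩
      · intro hx
        exact h (specializes_iff_mem_closure.mpr hx)
      · intro y hy
        have hy' : ¬ x₀ ⤳ y := fun hs => hy (specializes_iff_mem_closure.mp hs)
        rw [hF2 y hy']
        symm
        exact QuotientGroup.mk_one _
  refine ⟨⟨F, hmem⟩, ?_, hF2⟩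
  intro x h
  exact ⟨π x h, hπ x h, hπK x h, hF1 x h⟩

end Groth.Agent.Lib.Helper6.CDiv1
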