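import Mathlib
import Groth.Prelude.Def_CDiv
import Groth.Prelude.Def_Pi1
import Groth.Agent.Lib.Helper6.CDiv1.FactDiv

/-!
# A normal locally Noetherian integral scheme is locally factorial iff prime cycles of
codimension one are divisors
-/

set_option linter.unusedSectionVars false
set_option linter.unusedVariables false
set_option linter.unusedSimpArgs false
set_option autoImplicit false
set_option linter.style.haveILetI false
set_option maxHeartbeats 400000

namespace Groth.Agent.Lib.Helper6.CDiv1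

open AlgebraicGeometry CategoryTheory TopologicalSpace

universe u

variable {X : Scheme.{u}} [IsIntegral X]

lemma specPrime_refl (x : X) (h : x ⤳ x) :
    specPrime h = IsLocalRing.maximalIdeal (X.presheaf.stalk x) := by
  unfold specPrime
  have h1 : X.presheaf.stalkSpecializes h = 𝟙 _ := X.presheaf.stalkSpecializes_refl x
  rw [h1]
  rfl

lemma not_specializes_of_coheight {x₀ x : X} (hx₀ : Order.coheight x₀ = 1)
    (hx : Order.coheight x = 1) (hne : x ≠ x₀) : ¬ x₀ ⤳ x := by
  intro h
  have hlt : x < x₀ := by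
    refine lt_of_le_not_ge h ?_
    intro h'
    have h'' : x ⤳ x₀ := h'
    exact hne (h''.antisymm h).eq
  have := Order.coheight_add_one_le hlt
  rw [hx₀, hx] at this
  norm_num at this

theorem ord_eq_one_of_generator [IsLocallyNoetherian X] (x₀ : X) (hx₀ : Order.coheight x₀ = 1)
    (π : X.presheaf.stalk x₀)
    (hπ : IsLocalRing.maximalIdeal (X.presheaf.stalk x₀) = Ideal.span {π})
    (hπK : algebraMap (X.presheaf.stalk x₀) X.functionField π ≠ 0)
    (f : CDiv.KUnits X)
    (hf : CDiv.germOf X x₀ (Units.mk0 _ hπK) = CDiv.germOf X x₀ f) :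
    Scheme.ord (f : X.functionField) x₀ = 1 := by
  have hπ0 : π ≠ 0 := by
    intro h0
    apply hπK
    rw [h0, map_zero]
  have hnf : ¬ IsField (X.presheaf.stalk x₀) := by
    intro hfield
    have hbot := IsLocalRing.isField_iff_maximalIdeal_eq.mp hfield
    rw [hπ, Ideal.span_singleton_eq_bot] at hbot
    exact hπ0 hbot
  have hprinc : (IsLocalRing.maximalIdeal (X.presheaf.stalk x₀)).IsPrincipal := ⟨⟨π, hπ⟩⟩
  haveI hdvr : IsDiscreteValuationRing (X.presheaf.stalk x₀) :=
    ((IsDiscreteValuationRing.TFAE (X.presheaf.stalk x₀) hnf).out 4 0).mp hprinc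
  rw [germOf_eq_germOf_iff, mem_stalkUnits_iff] at hf
  obtain ⟨u, hu⟩ := hf
  have hirr : Irreducible (π * (u : X.presheaf.stalk x₀)) := by
    have h1 : Irreducible π := (IsDiscreteValuationRing.irreducible_iff_uniformizer π).mpr hπ
    exact (irreducible_mul_units u).mpr h1
  have hfeq : (f : X.functionField) =
      algebraMap (X.presheaf.stalk x₀) X.functionField (π * (u : X.presheaf.stalk x₀)) := by
    rw [map_mul, hu, Units.val_mul, Units.val_inv_eq_inv_val, Units.val_mk0, ← mul_assoc,
      mul_inv_cancel₀ hπK, one_mul]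
  rw [Scheme.ord_eq_iff hx₀ f.ne_zero, hfeq]
  have h2 := Ring.ordFrac_irreducible (R := X.presheaf.stalk x₀) (K := X.functionField) hirr
  exact h2

theorem ufd_iff_divisors [IsLocallyNoetherian X] (hX : Pi1.IsNormalScheme X) :
    (∀ x : ↥X, UniqueFactorizationMonoid (X.presheaf.stalk x)) ↔
      ∀ x₀ : ↥X, Order.coheight x₀ = 1 → ∃ D : CDiv.Divisor X,
        (∀ f : CDiv.KUnits X, D.1 x₀ = CDiv.germOf X x₀ f →
          Scheme.ord (f : ↑X.functionField) x₀ = 1) ∧
        ∀ x : ↥X, x ≠ x₀ → Order.coheight x = 1 → ∀ f : CDiv.KUnits X,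
          D.1 x = CDiv.germOf X x f → Scheme.ord (f : ↑X.functionField) x = 0 := by
  constructor
  · intro hufd x₀ hx₀
    obtain ⟨D, hD1, hD2⟩ := exists_divisor_of_ufd hufd x₀ hx₀
    refine ⟨D, ?_, ?_⟩
    · intro f hf
      obtain ⟨π, hπ, hπK, hDπ⟩ := hD1 x₀ (specializes_refl x₀)
      rw [specPrime_refl] at hπ
      rw [hDπ] at hf
      exact ord_eq_one_of_generator x₀ hx₀ π hπ hπK f hf
    · intro x hne hx f hf
      have hns : ¬ x₀ ⤳ x := not_specializes_of_coheight hx₀ hx hne
      rw [hD2 x hns] at hf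
      apply ord_eq_zero_of_mem_stalkUnits
      rw [← germOf_eq_one_iff]
      exact hf.symm
  · intro H x
    apply UniqueFactorizationMonoid.of_forall_isPrincipal_of_height_eq_one
    intro P hP hPh
    obtain ⟨x₀, h, hx₀, rfl⟩ := exists_specPrime_eq P hPh
    obtain ⟨D, H1, H2⟩ := H x₀ hx₀
    exact isPrincipal_specPrime_of_divisor hX h hx₀ D H1 H2

end Groth.Agent.Lib.Helper6.CDiv1
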